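import Groth.Prelude.Def_AlgGrp
import Groth.Agent.Lib.AbRigid.Maximal
import Mathlib.AlgebraicGeometry.Morphisms.Flat
import Mathlib.AlgebraicGeometry.Morphisms.QuasiSeparated
import Mathlib.AlgebraicGeometry.Morphisms.UniversallyOpen
import Mathlib.AlgebraicGeometry.Noetherian
import Mathlib.AlgebraicGeometry.Sites.Fpqc

/-!
# Elementary facts about group schemes and their actions over a field
-/

set_option backward.isDefEq.respectTransparency.types false

open CategoryTheory Limits AlgebraicGeometry MonoidalCategory CartesianMonoidalCategory MonObj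

namespace Groth.Agent.AlgGrpBasic19

universe u

variable {k : Type u} [Field k]

theorem quasiSeparatedSpace {Y : Over (Spec (CommRingCat.of k))} [LocallyOfFiniteType Y.hom] :
    QuasiSeparated Y.hom := by
  haveI : IsLocallyNoetherian Y.left := LocallyOfFiniteType.isLocallyNoetherian Y.hom
  infer_instance

theorem quasiCompact_left {X Y : Over (Spec (CommRingCat.of k))} (f : X ⟶ Y)
    [LocallyOfFiniteType Y.hom] [QuasiCompact X.hom] : QuasiCompact f.left := by
  haveI := quasiSeparatedSpace (Y := Y)
  haveI : QuasiCompact (f.left ≫ Y.hom) := by rw [Over.w f]; infer_instance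
  exact QuasiCompact.of_comp f.left Y.hom

theorem lft_left {X Y : Over (Spec (CommRingCat.of k))} (f : X ⟶ Y)
    [LocallyOfFiniteType X.hom] : LocallyOfFiniteType f.left := by
  haveI : LocallyOfFiniteType (f.left ≫ Y.hom) := by rw [Over.w f]; infer_instance
  exact locallyOfFiniteType_of_comp f.left Y.hom

/-- A flat, surjective, quasi-compact monomorphism over a base is an isomorphism. -/
theorem isIso_of_mono {S : Scheme.{u}} {X Y : Over S} (f : X ⟶ Y) [Mono f]
    [Flat f.left] [Surjective f.left] [QuasiCompact f.left] : IsIso f := by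
  haveI : IsIso ((Over.forget S).map f) := isIso_of_mono_of_strongEpi f.left
  exact isIso_of_reflects_iso f (Over.forget S)

/-- A flat surjective quasi-compact morphism over a base is an epimorphism. -/
theorem epi_of_cover {S : Scheme.{u}} {X Y : Over S} (f : X ⟶ Y)
    [Flat f.left] [Surjective f.left] [QuasiCompact f.left] : Epi f := by
  haveI : Epi ((Over.forget S).map f) := inferInstanceAs (Epi f.left)
  exact (Over.forget S).epi_of_epi_map (f := f) inferInstance

/-- Morphisms out of a flat surjective quasi-compact cover which agree on the kernel pair descend. -/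
theorem exists_desc {S : Scheme.{u}} {X Y Z : Over S} (f : X ⟶ Y)
    [Flat f.left] [Surjective f.left] [QuasiCompact f.left] (φ : X ⟶ Z)
    (h : ∀ (T : Over S) (a b : T ⟶ X), a ≫ f = b ≫ f → a ≫ φ = b ≫ φ) :
    ∃ ψ : Y ⟶ Z, f ≫ ψ = φ := by
  have h' : ∀ {T : Scheme.{u}} (a b : T ⟶ X.left), a ≫ f.left = b ≫ f.left →
      a ≫ φ.left = b ≫ φ.left := by
    intro T a b e
    have hb : b ≫ X.hom = a ≫ X.hom := by rw [← Over.w f, ← reassoc_of% e]
    exact congrArg CommaMorphism.left
      (h (Over.mk (a ≫ X.hom)) (Over.homMk a rfl) (Over.homMk b hb) (Over.OverMorphism.ext e))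
  refine ⟨Over.homMk (EffectiveEpi.desc f.left φ.left h') ?_, Over.OverMorphism.ext
    (EffectiveEpi.fac f.left φ.left h')⟩
  rw [← cancel_epi f.left, EffectiveEpi.fac_assoc, Over.w φ, Over.w f]

section Action

variable {S : Scheme.{u}} {G X T : Over S} [GrpObj G] (a : AlgGrp.Action G X)

theorem act_one (x : T ⟶ X) : lift (1 : T ⟶ G) x ≫ a.act = x := by
  have h := congrArg (fun f => lift (toUnit T) x ≫ f) a.one_act
  simp only [lift_whiskerRight_assoc, lift_leftUnitor_hom] at h
  simpa [Hom.one_def] using h

theorem act_mul (g g' : T ⟶ G) (x : T ⟶ X) :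
    lift (g * g') x ≫ a.act = lift g (lift g' x ≫ a.act) ≫ a.act := by
  have h := congrArg (fun f => lift (lift g g') x ≫ f) a.mul_act
  simp only [lift_whiskerRight_assoc, lift_lift_associator_hom_assoc, lift_whiskerLeft_assoc] at h
  simpa [Hom.mul_def] using h

/-- The automorphism `(g, x) ↦ (g, g · x)` of `G ⊗ X`. -/
noncomputable def shear : G ⊗ X ≅ G ⊗ X where
  hom := lift (fst G X) a.act
  inv := lift (fst G X) (lift ((fst G X)⁻¹) (snd G X) ≫ a.act)
  hom_inv_id := by
    have e : lift (fst G X) (snd G X) ≫ a.act = a.act := by rw [lift_fst_snd, Category.id_comp]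
    apply CartesianMonoidalCategory.hom_ext
    · simp only [Category.assoc, lift_fst, Category.id_comp]
    · rw [Category.assoc, lift_snd, ← Category.assoc, comp_lift, GrpObj.comp_inv, lift_fst, lift_snd,
        Category.id_comp]
      have h := act_mul a (fst G X)⁻¹ (fst G X) (snd G X)
      rw [inv_mul_cancel, act_one, e] at h
      exact h.symm
  inv_hom_id := by
    apply CartesianMonoidalCategory.hom_ext
    · simp only [Category.assoc, lift_fst, Category.id_comp]
    · rw [Category.assoc, lift_snd, Category.id_comp]
      have : lift (fst G X) (lift ((fst G X)⁻¹) (snd G X) ≫ a.act) ≫ a.act = snd G X := by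
        rw [← act_mul, mul_inv_cancel, act_one]
      exact this

theorem shear_hom_snd : (shear a).hom ≫ snd G X = a.act := lift_snd _ _

theorem shear_inv_act : (shear a).inv ≫ a.act = snd G X := by
  rw [Iso.inv_comp_eq, shear_hom_snd]

theorem isPullback_snd : IsPullback (snd G X).left (fst G X).left X.hom G.hom :=
  (IsPullback.of_hasPullback G.hom X.hom).flip

theorem act_of_property (P : MorphismProperty Scheme.{u}) [P.IsStableUnderBaseChange]
    (h : P G.hom) : P a.act.left := by
  rw [← shear_hom_snd a, Over.comp_left]
  haveI : IsIso (shear a).hom.left := inferInstanceAs (IsIso ((Over.forget S).map (shear a).hom))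
  haveI := MorphismProperty.IsStableUnderBaseChange.respectsIso (P := P)
  rw [P.cancel_left_of_respectsIso]
  exact P.of_isPullback (isPullback_snd (G := G) (X := X)).flip h

end Action

end Groth.Agent.AlgGrpBasic19
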