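import Groth.Agent.Lib.FlatH4.SmoothFibres
import Mathlib.AlgebraicGeometry.Morphisms.FormallyUnramified

/-!
# A morphism with a section all of whose fibres are isomorphisms
-/

universe u

set_option backward.isDefEq.respectTransparency.types false

open CategoryTheory Limits AlgebraicGeometry

namespace Groth.Agent.AlgGrpBasic19

variable {X Y : Scheme.{u}} (f : X ⟶ Y)

theorem isIso_pullback_fst_of_fibres (H : ∀ y : Y, IsIso (f.fiberToSpecResidueField y))
    (K : Type u) [Field K] (a : Spec (CommRingCat.of K) ⟶ Y) : IsIso (pullback.fst a f) := by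
  obtain ⟨y, φ, rfl⟩ : ∃ (y : Y) (φ : Y.residueField y ⟶ CommRingCat.of K),
      Spec.map φ ≫ Y.fromSpecResidueField y = a :=
    ⟨_, _, Scheme.descResidueField_stalkClosedPointTo_fromSpecResidueField K Y a⟩
  haveI := H y
  have sq : IsPullback (pullback.fst (Spec.map φ) (f.fiberToSpecResidueField y))
      (pullback.snd (Spec.map φ) (f.fiberToSpecResidueField y) ≫ f.fiberι y)
      (Spec.map φ ≫ Y.fromSpecResidueField y) f :=
    ((IsPullback.of_hasPullback (Spec.map φ) (f.fiberToSpecResidueField y)).flip.paste_horiz
      (IsPullback.of_hasPullback f (Y.fromSpecResidueField y))).flip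
  rw [← sq.isoPullback_inv_fst]
  haveI : IsIso (pullback.fst (Spec.map φ) (f.fiberToSpecResidueField y)) := inferInstance
  infer_instance

theorem formallyUnramified_of_fibres [LocallyOfFiniteType f]
    (H : ∀ y : Y, IsIso (f.fiberToSpecResidueField y)) : FormallyUnramified f := by
  rw [HasRingHomProperty.iff_appLE (P := @FormallyUnramified)]
  rintro ⟨U, hU⟩ ⟨V, hV⟩ e
  have hft := f.finiteType_appLE hU hV e
  algebraize [(f.appLE U V e).hom]
  rw [← RingHom.algebraMap_toAlgebra (f.appLE U V e).hom, RingHom.formallyUnramified_algebraMap]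
  refine FlatH4.formallyUnramified_of_fibres fun p _ => ?_
  have h := FlatH4.pullback_residueField_of_forall (P := @FormallyUnramified) f (fun e _ => inferInstance)
    (fun K _ a => by haveI := isIso_pullback_fst_of_fibres f H K a; infer_instance) hU hV e p
  rw [HasRingHomProperty.Spec_iff (P := @FormallyUnramified), CommRingCat.hom_ofHom,
    RingHom.formallyUnramified_algebraMap] at h
  exact h

/-- A morphism locally of finite type with a section all of whose fibres are isomorphisms is an
isomorphism. -/
theorem isIso_of_fibres [LocallyOfFiniteType f] (s : Y ⟶ X) (hs : s ≫ f = 𝟙 Y)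
    (H : ∀ y : Y, IsIso (f.fiberToSpecResidueField y)) : IsIso f := by
  haveI := formallyUnramified_of_fibres f H
  haveI : IsOpenImmersion s := by
    let m : X ⟶ pullback f f := pullback.lift (f ≫ s) (𝟙 X)
      (by rw [Category.assoc, hs, Category.comp_id, Category.id_comp])
    have hm1 : m ≫ pullback.fst f f = f ≫ s := pullback.lift_fst _ _ _
    have hm2 : m ≫ pullback.snd f f = 𝟙 X := pullback.lift_snd _ _ _
    have sq : IsPullback s s m (pullback.diagonal f) := by
      refine ⟨⟨?_⟩, ⟨PullbackCone.IsLimit.mk _ (fun c => c.fst ≫ f) (fun c => ?_) (fun c => ?_)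
        (fun c m' h1 _ => ?_)⟩⟩
      · apply pullback.hom_ext <;> simp [hm1, hm2, reassoc_of% hs]
      · have e1 := congrArg (· ≫ pullback.fst f f) c.condition
        have e2 := congrArg (· ≫ pullback.snd f f) c.condition
        simp [hm1, hm2] at e1 e2
        rw [Category.assoc, e1, e2]
      · have e1 := congrArg (· ≫ pullback.fst f f) c.condition
        simp [hm1] at e1
        simpa using e1
      · rw [← h1, Category.assoc, hs, Category.comp_id]
    exact MorphismProperty.of_isPullback (P := @IsOpenImmersion) sq.flip inferInstance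
  haveI : Surjective s := ⟨fun x => by
    refine ⟨f x, ?_⟩
    have h1 : f (s (f x)) = f x := by rw [← Scheme.Hom.comp_apply, hs]; rfl
    obtain ⟨a, ha⟩ : x ∈ Set.range (f.fiberι (f x)) := by rw [Scheme.Hom.range_fiberι]; rfl
    obtain ⟨b, hb⟩ : s (f x) ∈ Set.range (f.fiberι (f x)) := by rw [Scheme.Hom.range_fiberι]; exact h1
    haveI := H (f x)
    have : Function.Injective (f.fiberToSpecResidueField (f x)) :=
      (f.fiberToSpecResidueField (f x)).isOpenEmbedding.injective
    have hab := this (Subsingleton.elim (α := PrimeSpectrum (Y.residueField (f x)))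
      (f.fiberToSpecResidueField (f x) b) (f.fiberToSpecResidueField (f x) a))
    exact (hb.symm.trans (congrArg _ hab)).trans ha⟩
  haveI : IsIso s := (isIso_iff_isOpenImmersion_and_surjective s).2 ⟨inferInstance, inferInstance⟩
  haveI : IsIso (s ≫ f) := by rw [hs]; infer_instance
  exact IsIso.of_isIso_comp_left s f

end Groth.Agent.AlgGrpBasic19
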